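import Groth.Agent.Lib.AR.Chain
import Mathlib.CategoryTheory.Simple
import Mathlib.CategoryTheory.Subobject.Lattice
import Mathlib.Order.JordanHolder
import Mathlib.Order.ModularLattice

/-!
# Subquotients given by subobjects in an abelian category; the Jordan-Hölder theorem
-/

universe v u

open CategoryTheory CategoryTheory.Limits

namespace Groth.Agent.Lib.Abelian.SubobjectQuot

open Groth.Agent.Lib.AR

attribute [local instance] Abelian.hasFiniteBiproducts

variable {A : Type u} [Category.{v} A] [Abelian A] {X : A}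

lemma imLE_inf_iff {S T : Subobject X} {P : A} (f : P ⟶ X) :
    ImLE f (S ⊓ T).arrow ↔ ImLE f S.arrow ∧ ImLE f T.arrow := by
  rw [← factors_iff, ← factors_iff, ← factors_iff, Subobject.inf_factors]

lemma imLE_image (P : A) (f : P ⟶ X) : ImLE (imageSubobject f).arrow f :=
  ImLE.of_epi_left (factorThruImageSubobject f) ((imageSubobject_arrow_comp f).symm ▸ ImLE.refl f)

lemma imLE_sup (S T : Subobject X) : ImLE (S ⊔ T).arrow (biprod.desc S.arrow T.arrow) := by
  have h : S ⊔ T ≤ imageSubobject (biprod.desc S.arrow T.arrow) := by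
    refine sup_le ?_ ?_
    · conv_lhs => rw [← Subobject.mk_arrow S, ← imageSubobject_mono S.arrow]
      exact (imageSubobject_le_iff _ _).2 (ImLE.of_eq biprod.inl (biprod.inl_desc _ _).symm)
    · conv_lhs => rw [← Subobject.mk_arrow T, ← imageSubobject_mono T.arrow]
      exact (imageSubobject_le_iff _ _).2 (ImLE.of_eq biprod.inr (biprod.inr_desc _ _).symm)
  exact ((subobject_le_iff _ _).1 h).trans (imLE_image _ _)

lemma hom_sup_ext {S T : Subobject X} {W : A} (ψ : ((S ⊔ T : Subobject X) : A) ⟶ W)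
    (hS : Subobject.ofLE S (S ⊔ T) le_sup_left ≫ ψ = 0)
    (hT : Subobject.ofLE T (S ⊔ T) le_sup_right ≫ ψ = 0) : ψ = 0 := by
  have h : ImLE (𝟙 ((S ⊔ T : Subobject X) : A))
      (biprod.desc (Subobject.ofLE S (S ⊔ T) le_sup_left) (Subobject.ofLE T _ le_sup_right)) := by
    apply ImLE.of_mono (m := (S ⊔ T).arrow)
    rw [Category.id_comp]
    convert imLE_sup S T using 1
    apply biprod.hom_ext' <;> simp
  simpa using h.comp_eq_zero ((biprod_desc_comp_eq_zero_iff _ _ _).2 ⟨hS, hT⟩)

instance : IsModularLattice (Subobject X) where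
  sup_inf_le_assoc_of_le {x} y {z} hxz := by
    have hu : ((x ⊔ y) ⊓ z) ≤ (x ⊔ y) := inf_le_left
    have hu' : ((x ⊔ y) ⊓ z) ≤ z := inf_le_right
    rw [subobject_le_iff] at hu hu' hxz ⊢
    obtain ⟨T, π, hπ, w, hw⟩ := (hu.trans (imLE_sup x y)).exists_refinement
    rw [biprod.desc_eq, Preadditive.comp_add, ← Category.assoc, ← Category.assoc] at hw
    set a := (w ≫ biprod.fst) ≫ x.arrow with ha'
    set b := (w ≫ biprod.snd) ≫ y.arrow with hb'
    have ha : ImLE a x.arrow := ImLE.self_comp _ _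
    have hb : ImLE b (y ⊓ z).arrow := by
      refine (imLE_inf_iff b).2 ⟨ImLE.self_comp _ _, ?_⟩
      have e : b = π ≫ ((x ⊔ y) ⊓ z).arrow - a := by rw [hw]; abel
      rw [e]
      exact (hu'.comp_left π).sub (ha.trans hxz)
    refine ImLE.of_epi_left π ?_
    rw [hw]
    exact (ha.trans ((subobject_le_iff _ _).1 le_sup_left)).add
      (hb.trans ((subobject_le_iff _ _).1 le_sup_right))

/-- The subquotient `T/S`. -/
noncomputable abbrev quot (S T : Subobject X) (h : S ≤ T) : A := cokernel (Subobject.ofLE S T h)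

lemma imLE_ofLE_iff {S T : Subobject X} (h : S ≤ T) {P : A} (t : P ⟶ (T : A)) :
    ImLE t (Subobject.ofLE S T h) ↔ ImLE (t ≫ T.arrow) S.arrow := by
  constructor
  · intro ht
    have := ht.comp T.arrow
    rwa [Subobject.ofLE_arrow] at this
  · intro ht
    apply ImLE.of_mono (m := T.arrow)
    rwa [Subobject.ofLE_arrow]

lemma le_of_π_eq_zero {S T : Subobject X} (h : S ≤ T)
    (h0 : cokernel.π (Subobject.ofLE S T h) = 0) : T ≤ S := by
  rw [subobject_le_iff]
  have h1 : ImLE (𝟙 (T : A)) (Subobject.ofLE S T h) := by rw [ImLE, h0, comp_zero]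
  simpa using (imLE_ofLE_iff h _).1 h1

lemma π_eq_zero_of_le {S T : Subobject X} (h : S ≤ T) (h' : T ≤ S) :
    cokernel.π (Subobject.ofLE S T h) = 0 := by
  have h1 : ImLE (𝟙 (T : A)) (Subobject.ofLE S T h) :=
    (imLE_ofLE_iff h _).2 (by simpa using (subobject_le_iff _ _).1 h')
  simpa [ImLE] using h1

/-- The second isomorphism theorem. -/
theorem nonempty_second_iso (x y : Subobject X) :
    Nonempty (quot x (x ⊔ y) le_sup_left ≅ quot (x ⊓ y) y inf_le_right) := by
  let α : quot (x ⊓ y) y inf_le_right ⟶ quot x (x ⊔ y) le_sup_left :=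
    cokernel.map _ _ (Subobject.ofLE _ _ inf_le_left) (Subobject.ofLE _ _ le_sup_right) (by simp)
  have he : Epi α := Preadditive.epi_of_cancel_zero _ fun φ hφ => by
    rw [← cancel_epi (cokernel.π _), comp_zero]
    refine hom_sup_ext _ (by simp) ?_
    have := congrArg (fun t => cokernel.π _ ≫ t) hφ
    simpa [α] using this
  have hm : Mono α := Preadditive.mono_of_cancel_zero _ fun {P} g hg => by
    obtain ⟨T, π', hπ', t, ht⟩ :=
      surjective_up_to_refinements_of_epi (cokernel.π (Subobject.ofLE (x ⊓ y) y inf_le_right)) g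
    rw [← cancel_epi π', comp_zero, ht]
    have h1 : ImLE (t ≫ Subobject.ofLE y (x ⊔ y) le_sup_right)
        (Subobject.ofLE x (x ⊔ y) le_sup_left) := by
      have := congrArg (fun s => π' ≫ s) hg
      simp only [comp_zero, ← Category.assoc, ht] at this
      simpa [ImLE, α] using this
    rw [imLE_ofLE_iff, Category.assoc, Subobject.ofLE_arrow] at h1
    exact (imLE_ofLE_iff inf_le_right t).2 ((imLE_inf_iff _).2 ⟨h1, ImLE.self_comp _ _⟩)
  have := isIso_of_mono_of_epi α
  exact ⟨(asIso α).symm⟩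

theorem covBy_of_simple {x z : Subobject X} (h : x ≤ z) [Simple (quot x z h)] : x ⋖ z := by
  have hne : x ≠ z := fun e => by
    have h0 := π_eq_zero_of_le h e.ge
    refine Simple.not_isZero (quot x z h) ((IsZero.iff_id_eq_zero _).2 ?_)
    rw [← cancel_epi (cokernel.π (Subobject.ofLE x z h)), h0, zero_comp, zero_comp]
  refine ⟨lt_of_le_of_ne h hne, fun y hxy hyz => ?_⟩
  let β : quot x y hxy.le ⟶ quot x z h :=
    cokernel.map _ _ (𝟙 _) (Subobject.ofLE _ _ hyz.le) (by simp)
  have hm : Mono β := Preadditive.mono_of_cancel_zero _ fun {P} g hg => by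
    obtain ⟨T, π', hπ', t, ht⟩ :=
      surjective_up_to_refinements_of_epi (cokernel.π (Subobject.ofLE x y hxy.le)) g
    rw [← cancel_epi π', comp_zero, ht]
    have h1 : ImLE (t ≫ Subobject.ofLE y z hyz.le) (Subobject.ofLE x z h) := by
      have := congrArg (fun s => π' ≫ s) hg
      simp only [comp_zero, ← Category.assoc, ht] at this
      simpa [ImLE, β] using this
    rw [imLE_ofLE_iff, Category.assoc, Subobject.ofLE_arrow] at h1
    exact (imLE_ofLE_iff hxy.le t).2 h1
  by_cases h0 : β = 0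
  · refine hxy.not_ge (le_of_π_eq_zero hxy.le ?_)
    rw [← cancel_mono β, h0, comp_zero, zero_comp]
  · have := isIso_of_mono_of_nonzero h0
    refine hyz.not_ge ?_
    obtain ⟨T, π', hπ', t, ht⟩ := surjective_up_to_refinements_of_epi
      (cokernel.π (Subobject.ofLE x y hxy.le) ≫ β) (cokernel.π (Subobject.ofLE x z h))
    have h1 : ImLE (π' - t ≫ Subobject.ofLE y z hyz.le) (Subobject.ofLE x z h) := by
      rw [ImLE, Preadditive.sub_comp, ht]
      simp [β]
    rw [imLE_ofLE_iff, Preadditive.sub_comp, Category.assoc, Subobject.ofLE_arrow] at h1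
    rw [subobject_le_iff]
    refine ImLE.of_epi_left π' ?_
    have h2 := (h1.trans ((subobject_le_iff _ _).1 hxy.le)).add (ImLE.self_comp y.arrow t)
    rwa [sub_add_cancel] at h2

theorem simple_of_covBy {x z : Subobject X} (h : x ≤ z) (hc : x ⋖ z) : Simple (quot x z h) := by
  refine ⟨fun {Y} f hf => ⟨fun _ e => ?_, fun hne => ?_⟩⟩
  · refine hc.lt.not_ge (le_of_π_eq_zero h ?_)
    rw [← Category.comp_id (cokernel.π (Subobject.ofLE x z h)), ← IsIso.inv_hom_id f]
    conv_lhs => arg 2; arg 2; rw [e]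
    simp
  · let q := cokernel.π (Subobject.ofLE x z h) ≫ cokernel.π f
    let y := Subobject.mk (kernel.ι q ≫ z.arrow)
    have hxy : x ≤ y := Subobject.le_mk_of_comm
      (kernel.lift q (Subobject.ofLE x z h) (by simp [q])) (by simp)
    have hyz : y ≤ z := Subobject.mk_le_of_comm (kernel.ι q) rfl
    rcases hc.eq_or_eq hxy hyz with e | e
    · refine absurd ?_ hne
      obtain ⟨T, π', hπ', t, ht⟩ :=
        surjective_up_to_refinements_of_epi (cokernel.π (Subobject.ofLE x z h)) f
      rw [← cancel_epi π', comp_zero, ht]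
      have htq : t ≫ q = 0 := by
        simp only [q, ← Category.assoc, ← ht]
        simp
      have h1 : ImLE (t ≫ z.arrow) y.arrow := factors_iff.1
        ((Subobject.factors_iff _ _).2 ⟨kernel.lift q t htq ≫ (Subobject.underlyingIso _).inv, by
          simp [y]⟩)
      rw [e, ← imLE_ofLE_iff h] at h1
      exact h1
    · have h1 : ImLE z.arrow (kernel.ι q ≫ z.arrow) :=
        ((subobject_le_iff _ _).1 e.ge).trans
          (ImLE.of_eq (Subobject.underlyingIso _).hom (Subobject.underlyingIso_hom_comp_eq_mk _).symm)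
      have h2 : ImLE (𝟙 (z : A)) (kernel.ι q) :=
        ImLE.of_mono (m := z.arrow) (by rwa [Category.id_comp])
      have hq : q = 0 := by simpa using h2.comp_eq_zero (kernel.condition q)
      have : cokernel.π f = 0 := by
        rw [← cancel_epi (cokernel.π (Subobject.ofLE x z h)), comp_zero]
        exact hq
      have := Abelian.epi_of_cokernel_π_eq_zero f this
      exact isIso_of_mono_of_epi f

lemma finite_subobject_of_simple (Q : A) [Simple Q] : Finite (Subobject Q) := by
  have := (simple_iff_subobject_isSimpleOrder Q).1 ‹_›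
  exact Finite.of_surjective (fun b : Bool => if b then (⊤ : Subobject Q) else ⊥) fun S => by
    rcases eq_bot_or_eq_top S with rfl | rfl
    exacts [⟨false, rfl⟩, ⟨true, rfl⟩]

theorem closed_of_chain {P : A → Prop} (hP : Closed P) (hs : ∀ Q : A, Simple Q → P Q)
    {n : ℕ} (F : Fin (n + 1) → Subobject X) (hF : Monotone F) (h0 : F 0 = ⊥)
    (hn : F (Fin.last n) = ⊤)
    (hq : ∀ i : Fin n, Simple (quot (F i.castSucc) (F i.succ)
      (hF (Fin.castSucc_lt_succ (i := i)).le))) : P X := by
  have key : ∀ i, P ((F i : Subobject X) : A) := by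
    intro i
    induction i using Fin.induction with
    | zero =>
      rw [h0]
      refine hP.zero (IsZero.of_mono_eq_zero (⊥ : Subobject X).arrow ?_)
      exact Subobject.bot_arrow
    | succ i ih =>
      exact hP.ext (ShortComplex.exact_of_g_is_cokernel (ShortComplex.mk _ _
        (cokernel.condition (Subobject.ofLE (F i.castSucc) (F i.succ)
          (hF (Fin.castSucc_lt_succ (i := i)).le)))) (cokernelIsCokernel _)) ih (hs _ (hq i))
  have := key (Fin.last n)
  rw [hn] at this
  exact hP.epi (⊤ : Subobject X).arrow this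

theorem isArtinian_and_isNoetherian_of_chain
    {n : ℕ} (F : Fin (n + 1) → Subobject X) (hF : Monotone F) (h0 : F 0 = ⊥)
    (hn : F (Fin.last n) = ⊤)
    (hq : ∀ i : Fin n, Simple (quot (F i.castSucc) (F i.succ)
      (hF (Fin.castSucc_lt_succ (i := i)).le))) : IsArtinianObject X ∧ IsNoetherianObject X := by
  refine ⟨closed_of_chain closed_isArtinianObject (fun Q _ => ?_) F hF h0 hn hq,
    closed_of_chain closed_isNoetherianObject (fun Q _ => ?_) F hF h0 hn hq⟩
  · have := finite_subobject_of_simple Q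
    exact (isArtinianObject_iff_wf Q).2 Finite.to_wellFoundedLT
  · have := finite_subobject_of_simple Q
    exact (isNoetherianObject_iff_wf Q).2 Finite.to_wellFoundedGT

theorem exists_chain (ha : IsArtinianObject X) (hn : IsNoetherianObject X) :
    ∃ (n : ℕ) (F : Fin (n + 1) → Subobject X) (hF : Monotone F), F 0 = ⊥ ∧ F (Fin.last n) = ⊤ ∧
      ∀ i : Fin n, Simple (quot (F i.castSucc) (F i.succ)
        (hF (Fin.castSucc_lt_succ (i := i)).le)) := by
  have := (isArtinianObject_iff_wf X).1 ha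
  have := (isNoetherianObject_iff_wf X).1 hn
  obtain ⟨a, h0, n, hn', hc⟩ := exists_covBy_seq_of_wellFoundedLT_wellFoundedGT (Subobject X)
  have hF : Monotone (fun i : Fin (n + 1) => a i) :=
    Fin.monotone_iff_le_succ.2 fun i => (hc i i.isLt).le
  exact ⟨n, fun i => a i, hF, isMin_iff_eq_bot.1 h0, isMax_iff_eq_top.1 hn',
    fun i => simple_of_covBy _ (hc i i.isLt)⟩

open JordanHolderLattice in
theorem jordanHolder
    {n : ℕ} (F : Fin (n + 1) → Subobject X) (hF : Monotone F) (hF0 : F 0 = ⊥)
    (hFn : F (Fin.last n) = ⊤)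
    (hFs : ∀ i : Fin n, Simple (quot (F i.castSucc) (F i.succ)
      (hF (Fin.castSucc_lt_succ (i := i)).le)))
    {m : ℕ} (G : Fin (m + 1) → Subobject X) (hG : Monotone G) (hG0 : G 0 = ⊥)
    (hGm : G (Fin.last m) = ⊤)
    (hGs : ∀ j : Fin m, Simple (quot (G j.castSucc) (G j.succ)
      (hG (Fin.castSucc_lt_succ (i := j)).le))) :
    ∃ (f : Fin n ≃ Fin m), ∀ i : Fin n,
      Nonempty (quot (F i.castSucc) (F i.succ) (hF (Fin.castSucc_lt_succ (i := i)).le) ≅
        quot (G (f i).castSucc) (G (f i).succ) (hG (Fin.castSucc_lt_succ (i := f i)).le)) := by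
  classical
  let s₁ : CompositionSeries (Subobject X) :=
    { length := n, toFun := F, step := fun i => @covBy_of_simple A _ _ X _ _ _ (hFs i) }
  let s₂ : CompositionSeries (Subobject X) :=
    { length := m, toFun := G, step := fun i => @covBy_of_simple A _ _ X _ _ _ (hGs i) }
  obtain ⟨f, hf⟩ := CompositionSeries.jordan_holder s₁ s₂ (hF0.trans hG0.symm) (hFn.trans hGm.symm)
  refine ⟨f, fun i => ?_⟩
  let Q : Subobject X × Subobject X → A := fun p => if h : p.1 ≤ p.2 then quot p.1 p.2 h else X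
  have hQ : ∀ (a b : Subobject X) (h : a ≤ b), Q (a, b) = quot a b h := fun a b h => dif_pos h
  obtain ⟨e⟩ := Iso.rel (fun p q => Nonempty (Q p ≅ Q q)) ⟨CategoryTheory.Iso.refl _⟩
    (fun ⟨e⟩ => ⟨e.symm⟩) (fun ⟨e⟩ ⟨e'⟩ => ⟨e ≪≫ e'⟩)
    (fun {x y} _ => by
      rw [hQ _ _ le_sup_left, hQ _ _ inf_le_right]
      exact nonempty_second_iso x y) (hf i)
  exact ⟨eqToIso (hQ _ _ _).symm ≪≫ e ≪≫ eqToIso (hQ _ _ _)⟩

end Groth.Agent.Lib.Abelian.SubobjectQuot
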