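import Groth.Agent.Lib.Abelian.SubobjectQuot
import Mathlib.CategoryTheory.Adjunction.FullyFaithful
import Mathlib.Algebra.Homology.ShortComplex.ExactFunctor
import Mathlib.Order.OrderIsoNat

/-!
# The counit at objects of finite length
-/

universe v u v' u'

open CategoryTheory CategoryTheory.Limits

namespace Groth.Agent.Lib.Abelian.FiniteLengthMono

open Groth.Agent.Lib.Abelian.SubobjectQuot Groth.Agent.Lib.AR

variable {A : Type u} [Category.{v} A] [Abelian A] {B : Type u'} [Category.{v'} B] [Abelian B]
  (u : A ⥤ B) [u.Full] [u.Faithful] [PreservesFiniteLimits u] [PreservesFiniteColimits u]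

theorem mono_of_finiteLength {X : A} (hX : IsArtinianObject X ∧ IsNoetherianObject X)
    (hsimple : ∀ X : A, Simple X → Simple (u.obj X)) {Y : B} (f : u.obj X ⟶ Y)
    (hf : ∀ (W : A) (g : W ⟶ X), u.map g ≫ f = 0 → g = 0) : Mono f := by
  have := (isArtinianObject_iff_wf X).1 hX.1
  have := (isNoetherianObject_iff_wf X).1 hX.2
  have := u.additive_of_preserves_binary_products
  have key : ∀ S : Subobject X, Mono (u.map S.arrow ≫ f) := by
    intro S
    induction S using WellFoundedLT.induction with
    | _ S ih =>
      by_cases hS : S = ⊥
      · subst hS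
        have h0 : IsZero ((⊥ : Subobject X) : A) :=
          IsZero.of_mono_eq_zero (⊥ : Subobject X).arrow Subobject.bot_arrow
        exact Preadditive.mono_of_cancel_zero _ fun g _ => (u.map_isZero h0).eq_of_tgt _ _
      · obtain ⟨T, hT, hmax⟩ := (wellFounded_gt (α := Subobject X)).has_min (Set.Iio S)
          ⟨⊥, bot_lt_iff_ne_bot.2 hS⟩
        have hcov : T ⋖ S := ⟨hT, fun c hc hc' => hmax c hc' hc⟩
        have := simple_of_covBy hcov.le hcov
        have := hsimple _ this
        let q := quot T S hcov.le
        let π : (S : A) ⟶ q := cokernel.π _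
        have hex := (ShortComplex.exact_of_g_is_cokernel (ShortComplex.mk _ _
          (cokernel.condition (Subobject.ofLE T S hcov.le))) (cokernelIsCokernel _)).map u
        let k := kernel.ι (u.map S.arrow ≫ f)
        have : Mono (k ≫ u.map π) := Preadditive.mono_of_cancel_zero _ fun {W} g hg => by
          obtain ⟨W', p, hp, z, hz'⟩ : ∃ (W' : B) (p : W' ⟶ W) (_ : Epi p) (z : W' ⟶ u.obj (T : A)),
              p ≫ g ≫ k = z ≫ u.map (Subobject.ofLE T S hcov.le) :=
            hex.exact_up_to_refinements (g ≫ k) ((Category.assoc g k (u.map π)).trans hg)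
          have hTm := ih T hT
          have : z = 0 := by
            rw [← cancel_mono (u.map T.arrow ≫ f), zero_comp]
            have h := congrArg (fun t => t ≫ u.map S.arrow ≫ f) hz'
            simp only [Category.assoc, k, kernel.condition, comp_zero] at h
            rw [← Subobject.ofLE_arrow hcov.le, Functor.map_comp, Category.assoc]
            exact h.symm
          rw [this, zero_comp] at hz'
          rw [← cancel_mono k, zero_comp, ← cancel_epi p, hz', comp_zero]
        by_cases h0 : k ≫ u.map π = 0
        · refine Preadditive.mono_of_kernel_zero ?_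
          have hid : 𝟙 (kernel (u.map S.arrow ≫ f)) = 0 :=
            (cancel_mono (k ≫ u.map π)).1 (by simp [h0])
          rw [← Category.id_comp (kernel.ι _), hid, zero_comp]
        · have := isIso_of_mono_of_nonzero h0
          refine absurd ?_ h0
          let s := inv (k ≫ u.map π) ≫ k
          have hs : u.map (u.preimage s ≫ S.arrow) ≫ f = 0 := by
            simp [s, k]
          have h2 : u.preimage s = 0 := by
            rw [← cancel_mono S.arrow, zero_comp]
            exact hf _ _ hs
          have h3 : s = 0 := by rw [← u.map_preimage s, h2, Functor.map_zero]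
          have h4 : k = 0 := by
            rw [← IsIso.hom_inv_id_assoc (k ≫ u.map π) k]
            exact (congrArg ((k ≫ u.map π) ≫ ·) h3).trans comp_zero
          rw [h4, zero_comp]
  have := key ⊤
  have h : IsIso (u.map (⊤ : Subobject X).arrow) := inferInstance
  rw [show f = inv (u.map (⊤ : Subobject X).arrow) ≫ u.map (⊤ : Subobject X).arrow ≫ f by simp]
  exact mono_comp _ _

theorem mono_counit (uStar : B ⥤ A) (adj : u ⊣ uStar)
    (hlen : ∀ X : A, IsArtinianObject X ∧ IsNoetherianObject X)
    (hsimple : ∀ X : A, Simple X → Simple (u.obj X)) (Y : B) : Mono (adj.counit.app Y) := by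
  refine mono_of_finiteLength u (hlen _) hsimple _ fun W g hg => ?_
  have := u.additive_of_preserves_binary_products
  apply (adj.homEquiv W Y).symm.injective
  rw [Adjunction.homEquiv_counit, Adjunction.homEquiv_counit, hg, Functor.map_zero, zero_comp]

end Groth.Agent.Lib.Abelian.FiniteLengthMono
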