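import Mathlib.CategoryTheory.Abelian.Basic
import Mathlib.Algebra.Homology.ShortComplex.ExactFunctor
import Mathlib.CategoryTheory.Abelian.SerreClass.Localization
import Mathlib.CategoryTheory.Localization.CalculusOfFractions.Preadditive

/-!
# Localizations of abelian categories with calculus of fractions
-/

universe v u v' u'

open CategoryTheory CategoryTheory.Limits
open ZeroObject

namespace Groth.Agent.Lib.Abelian.LocalizationAbelian

variable {A : Type u} [Category.{v} A] [Abelian A]
  (W : MorphismProperty A) [W.HasLeftCalculusOfFractions] [W.HasRightCalculusOfFractions]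
  {D : Type u'} [Category.{v'} D] [Preadditive D] (L : A ⥤ D) [L.Additive] [L.IsLocalization W]

include W in
lemma mono_map {X Y : A} (f : X ⟶ Y) [Mono f] : Mono (L.map f) := by
  have := Localization.essSurj L W
  refine Preadditive.mono_of_cancel_zero _ fun {Z} z hz => ?_
  obtain ⟨φ, hφ⟩ := Localization.exists_rightFraction L W ((L.objObjPreimageIso Z).hom ≫ z)
  have := Localization.inverts L W φ.s φ.hs
  have h1 := congrArg (L.map φ.s ≫ ·) hφ
  simp only [MorphismProperty.RightFraction.map_s_comp_map] at h1
  have h0 : L.map (φ.f ≫ f) = L.map 0 := by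
    rw [L.map_comp, ← h1, Category.assoc, Category.assoc, hz, comp_zero, comp_zero, L.map_zero]
  obtain ⟨Z', t, ht, ht'⟩ := (MorphismProperty.map_eq_iff_precomp L W _ _).1 h0
  rw [comp_zero, ← Category.assoc, ← zero_comp (f := f), cancel_mono] at ht'
  have := Localization.inverts L W t ht
  rw [← cancel_epi (L.objObjPreimageIso Z).hom, ← cancel_epi (L.map φ.s), h1, comp_zero, comp_zero,
    ← cancel_epi (L.map t), ← L.map_comp, ht', L.map_zero, comp_zero]

include W in
lemma epi_map {X Y : A} (f : X ⟶ Y) [Epi f] : Epi (L.map f) := by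
  have := Localization.essSurj L W
  refine Preadditive.epi_of_cancel_zero _ fun {Z} z hz => ?_
  obtain ⟨φ, hφ⟩ := Localization.exists_leftFraction L W (z ≫ (L.objObjPreimageIso Z).inv)
  have := Localization.inverts L W φ.s φ.hs
  have h1 := congrArg (· ≫ L.map φ.s) hφ
  simp only [MorphismProperty.LeftFraction.map_comp_map_s, Category.assoc] at h1
  have h0 : L.map (f ≫ φ.f) = L.map 0 := by
    rw [L.map_comp, ← h1, reassoc_of% hz, zero_comp, L.map_zero]
  obtain ⟨Z', t, ht, ht'⟩ := (MorphismProperty.map_eq_iff_postcomp L W _ _).1 h0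
  rw [zero_comp, Category.assoc, ← comp_zero (f := f), cancel_epi] at ht'
  have := Localization.inverts L W t ht
  rw [← cancel_mono (L.objObjPreimageIso Z).inv, ← cancel_mono (L.map φ.s), Category.assoc, h1,
    zero_comp, zero_comp, ← cancel_mono (L.map t), ← L.map_comp, ht', L.map_zero, zero_comp]

include W in
lemma preservesKernel {X Y : A} (f : X ⟶ Y) : PreservesLimit (parallelPair f 0) L := by
  have := mono_map W L (kernel.ι f)
  have := Localization.essSurj L W
  suffices ∀ (Z : D) (z : Z ⟶ L.obj X), z ≫ L.map f = 0 →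
      ∃ (l : Z ⟶ L.obj (kernel f)), l ≫ L.map (kernel.ι f) = z from
    preservesLimit_of_preserves_limit_cone (kernelIsKernel f)
      ((KernelFork.isLimitMapConeEquiv _ L).2
        (Fork.IsLimit.ofExistsUnique
          (fun s ↦ existsUnique_of_exists_of_unique
            (this _ _ (KernelFork.condition s))
            (fun _ _ h₁ h₂ ↦ (cancel_mono (L.map (kernel.ι f))).1 (h₁.trans h₂.symm)))))
  intro Z z hz
  obtain ⟨φ, hφ⟩ := Localization.exists_rightFraction L W ((L.objObjPreimageIso Z).hom ≫ z)
  have := Localization.inverts L W φ.s φ.hs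
  have h1 := congrArg (L.map φ.s ≫ ·) hφ
  simp only [MorphismProperty.RightFraction.map_s_comp_map] at h1
  have h0 : L.map (φ.f ≫ f) = L.map 0 := by
    rw [L.map_comp, ← h1, Category.assoc, Category.assoc, hz, comp_zero, comp_zero, L.map_zero]
  obtain ⟨Z', t, ht, ht'⟩ := (MorphismProperty.map_eq_iff_precomp L W _ _).1 h0
  rw [comp_zero, ← Category.assoc] at ht'
  have := Localization.inverts L W t ht
  refine ⟨(L.objObjPreimageIso Z).inv ≫ inv (L.map φ.s) ≫ inv (L.map t) ≫
    L.map (kernel.lift f _ ht'), ?_⟩
  simp only [Category.assoc, ← L.map_comp, kernel.lift_ι]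
  simp [← h1]

include W in
lemma preservesCokernel {X Y : A} (f : X ⟶ Y) : PreservesColimit (parallelPair f 0) L := by
  have := epi_map W L (cokernel.π f)
  have := Localization.essSurj L W
  suffices ∀ (Z : D) (z : L.obj Y ⟶ Z), L.map f ≫ z = 0 →
      ∃ (l : L.obj (cokernel f) ⟶ Z), L.map (cokernel.π f) ≫ l = z from
    preservesColimit_of_preserves_colimit_cocone (cokernelIsCokernel f)
      ((CokernelCofork.isColimitMapCoconeEquiv _ L).2
        (Cofork.IsColimit.ofExistsUnique
          (fun s ↦ existsUnique_of_exists_of_unique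
            (this _ _ (CokernelCofork.condition s))
            (fun _ _ h₁ h₂ ↦ (cancel_epi (L.map (cokernel.π f))).1 (h₁.trans h₂.symm)))))
  intro Z z hz
  obtain ⟨φ, hφ⟩ := Localization.exists_leftFraction L W (z ≫ (L.objObjPreimageIso Z).inv)
  have := Localization.inverts L W φ.s φ.hs
  have h1 := congrArg (· ≫ L.map φ.s) hφ
  simp only [MorphismProperty.LeftFraction.map_comp_map_s, Category.assoc] at h1
  have h0 : L.map (f ≫ φ.f) = L.map 0 := by
    rw [L.map_comp, ← h1, reassoc_of% hz, zero_comp, L.map_zero]
  obtain ⟨Z', t, ht, ht'⟩ := (MorphismProperty.map_eq_iff_postcomp L W _ _).1 h0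
  rw [zero_comp, Category.assoc] at ht'
  have := Localization.inverts L W t ht
  refine ⟨L.map (cokernel.desc f _ ht') ≫ inv (L.map t) ≫ inv (L.map φ.s) ≫
    (L.objObjPreimageIso Z).hom, ?_⟩
  rw [← L.map_comp_assoc, cokernel.π_desc, L.map_comp, Category.assoc, IsIso.hom_inv_id_assoc,
    ← h1]
  simp

include W in
lemma isIso_factorThruImage_of_mono {X Y : A} (f : X ⟶ Y) [Mono (L.map f)] :
    IsIso (L.map (Abelian.factorThruImage f)) := by
  have h0 : L.map (kernel.ι f) = 0 := by
    rw [← cancel_mono (L.map f), zero_comp, ← L.map_comp, kernel.condition, L.map_zero]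
  have hk : kernel.ι f ≫ Abelian.factorThruImage f = 0 := by
    rw [← cancel_mono (Abelian.image.ι f), Category.assoc, Abelian.image.fac, kernel.condition,
      zero_comp]
  have hc : IsColimit (CokernelCofork.ofπ (Abelian.factorThruImage f)
      (kernel.condition (Abelian.factorThruImage f))) :=
    Abelian.epiIsCokernelOfKernel _ (limit.isLimit _)
  have := preservesCokernel W L (kernel.ι (Abelian.factorThruImage f))
  have hc' := (CokernelCofork.isColimitMapCoconeEquiv _ L).1 (isColimitOfPreserves L hc)
  refine CokernelCofork.IsColimit.isIso_π _ hc' ?_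
  rw [← cancel_mono (L.map f), zero_comp, ← L.map_comp,
    show kernel.ι (Abelian.factorThruImage f) ≫ f = 0 by
      conv_lhs => arg 2; rw [← Abelian.image.fac f]
      rw [kernel.condition_assoc, zero_comp], L.map_zero]

include W in
lemma isIso_image_ι_of_epi {X Y : A} (f : X ⟶ Y) [Epi (L.map f)] :
    IsIso (L.map (Abelian.image.ι f)) := by
  have hc := kernelIsKernel (cokernel.π f)
  have := preservesKernel W L (cokernel.π f)
  have hc' := (KernelFork.isLimitMapConeEquiv _ L).1 (isLimitOfPreserves L hc)
  refine KernelFork.IsLimit.isIso_ι _ hc' ?_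
  rw [← cancel_epi (L.map f), comp_zero, ← L.map_comp, cokernel.condition, L.map_zero]

include W L in
theorem exists_abelian : Nonempty (Abelian D) := by
  have := Localization.essSurj L W
  have := Localization.essSurj_mapArrow L W
  have hk : HasKernels D := ⟨fun f => by
    have := preservesKernel W L (L.mapArrow.objPreimage (Arrow.mk f)).hom
    have e' := L.mapArrow.objObjPreimageIso (Arrow.mk f)
    have : HasLimit (parallelPair (L.map (L.mapArrow.objPreimage (Arrow.mk f)).hom) 0) :=
      ⟨_, (KernelFork.isLimitMapConeEquiv _ L).1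
        (isLimitOfPreserves L (kernelIsKernel _))⟩
    exact hasLimit_of_iso (show parallelPair (L.map _) 0 ≅ parallelPair f 0 from
      parallelPair.ext (Arrow.leftFunc.mapIso e') (Arrow.rightFunc.mapIso e')
        (Arrow.w e'.hom).symm (by simp))⟩
  have hc : HasCokernels D := ⟨fun f => by
    have := preservesCokernel W L (L.mapArrow.objPreimage (Arrow.mk f)).hom
    have e' := L.mapArrow.objObjPreimageIso (Arrow.mk f)
    have : HasColimit (parallelPair (L.map (L.mapArrow.objPreimage (Arrow.mk f)).hom) 0) :=
      ⟨_, (CokernelCofork.isColimitMapCoconeEquiv _ L).1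
        (isColimitOfPreserves L (cokernelIsCokernel _))⟩
    exact hasColimit_of_iso (show parallelPair f 0 ≅ parallelPair (L.map _) 0 from
      parallelPair.ext (Arrow.leftFunc.mapIso e'.symm) (Arrow.rightFunc.mapIso e'.symm)
        (Arrow.w e'.inv).symm (by simp))⟩
  have hp : HasFiniteProducts D := L.hasFiniteProducts_of_additive_of_essSurj
  have hnm : IsNormalMonoCategory D := ⟨fun f hf => by
    let g := (L.mapArrow.objPreimage (Arrow.mk f)).hom
    let e := L.mapArrow.objObjPreimageIso (Arrow.mk f)
    have : Mono (L.map g) :=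
      ((MorphismProperty.monomorphisms D).arrow_iso_iff e).2 (.infer_property f)
    have := isIso_factorThruImage_of_mono W L g
    let n := normalMonoOfMono (Abelian.image.ι g)
    have := preservesKernel W L n.g
    refine ⟨NormalMono.ofArrowIso ?_ ((Arrow.isoMk' (L.map g) (L.map (Abelian.image.ι g))
      (asIso (L.map (Abelian.factorThruImage g))) (Iso.refl _)
      (by simp [← L.map_comp])).symm ≪≫ e)⟩
    exact {
      Z := L.obj n.Z
      g := L.map n.g
      w := by rw [← L.map_comp, n.w, L.map_zero]
      isLimit :=
        (KernelFork.isLimitMapConeEquiv _ L).1 (isLimitOfPreserves L n.isLimit) }⟩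
  have hne : IsNormalEpiCategory D := ⟨fun f hf => by
    let g := (L.mapArrow.objPreimage (Arrow.mk f)).hom
    let e := L.mapArrow.objObjPreimageIso (Arrow.mk f)
    have : Epi (L.map g) :=
      ((MorphismProperty.epimorphisms D).arrow_iso_iff e).2 (.infer_property f)
    have := isIso_image_ι_of_epi W L g
    let n := normalEpiOfEpi (Abelian.factorThruImage g)
    have := preservesCokernel W L n.g
    refine ⟨NormalEpi.ofArrowIso ?_ (Arrow.isoMk' (L.map (Abelian.factorThruImage g)) (L.map g)
      (Iso.refl _) (asIso (L.map (Abelian.image.ι g)))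
      (by simp [← L.map_comp]) ≪≫ e)⟩
    exact {
      W := L.obj n.W
      g := L.map n.g
      w := by rw [← L.map_comp, n.w, L.map_zero]
      isColimit :=
        (CokernelCofork.isColimitMapCoconeEquiv _ L).1 (isColimitOfPreserves L n.isColimit) }⟩
  exact ⟨{}⟩

include W in
theorem preservesFiniteLimits : PreservesFiniteLimits L :=
  have := Localization.essSurj L W
  have : HasFiniteProducts D := L.hasFiniteProducts_of_additive_of_essSurj
  haveI : HasZeroObject D := (L.map_isZero (isZero_zero A)).hasZeroObject
  have := fun {X Y : A} (f : X ⟶ Y) => preservesKernel W L f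
  L.preservesFiniteLimits_of_preservesKernels

include W in
theorem preservesFiniteColimits : PreservesFiniteColimits L :=
  have := Localization.essSurj L W
  have : HasFiniteProducts D := L.hasFiniteProducts_of_additive_of_essSurj
  haveI : HasZeroObject D := (L.map_isZero (isZero_zero A)).hasZeroObject
  have := fun {X Y : A} (f : X ⟶ Y) => preservesCokernel W L f
  L.preservesFiniteColimits_of_preservesCokernels

end Groth.Agent.Lib.Abelian.LocalizationAbelian
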